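import Groth.Prelude.Def_OmegaPn

/-!
# Transition maps and order zero for principal parts
-/

universe u

open CategoryTheory CategoryTheory.Limits AlgebraicGeometry TopologicalSpace Opposite

namespace Groth.Agent.Nrm6

open PrinPart

variable {X S : Scheme.{u}} (f : X ⟶ S)

theorem nbhdMap_ι {n m : ℕ} (h : n ≤ m) :
    infNbhdMap (diagCl f) h ≫ nbhdι f m = nbhdι f n := by
  rw [nbhdι, nbhdι, infNbhdMap_ι_assoc]

theorem nbhdMap_pr1 {n m : ℕ} (h : n ≤ m) : infNbhdMap (diagCl f) h ≫ pr1 f m = pr1 f n := by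
  rw [pr1, pr1, ← Category.assoc, nbhdMap_ι]

theorem nbhdMap_pr2 {n m : ℕ} (h : n ≤ m) : infNbhdMap (diagCl f) h ≫ pr2 f m = pr2 f n := by
  rw [pr2, pr2, ← Category.assoc, nbhdMap_ι]

section Descend

variable {Y Z W : Scheme.{u}}

/-- The map `h^*M ⟶ j_* g^* M` for `g = j ≫ h`. -/
noncomputable def pullTo (h : Z ⟶ Y) (j : W ⟶ Z) (g : W ⟶ Y) (e : j ≫ h = g) (M : Y.Modules) :
    (Scheme.Modules.pullback h).obj M ⟶
      (Scheme.Modules.pushforward j).obj ((Scheme.Modules.pullback g).obj M) :=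
  ((Scheme.Modules.pullbackPushforwardAdjunction h).homEquiv _ _).symm
    ((Scheme.Modules.pullbackPushforwardAdjunction g).unit.app M ≫
      (Scheme.Modules.pushforwardCongr e.symm).hom.app _ ≫
      (Scheme.Modules.pushforwardComp j h).inv.app _)

theorem pullTo_pullSect (h : Z ⟶ Y) (j : W ⟶ Z) (g : W ⟶ Y) (e : j ≫ h = g) (M : Y.Modules)
    (U : Y.Opens) (t : Γ(M, U)) :
    (pullTo h j g e M).app (h ⁻¹ᵁ U) (OmegaSh.pullSect h M U t) =
      ((Scheme.Modules.pullback g).obj M).presheaf.map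
        (eqToHom (by subst e; rfl : j ⁻¹ᵁ (h ⁻¹ᵁ U) = g ⁻¹ᵁ U)).op
        (OmegaSh.pullSect g M U t) := by
  let φ := pullTo h j g e M
  have h1 : ((Scheme.Modules.pullbackPushforwardAdjunction h).homEquiv _ _) φ =
      (Scheme.Modules.pullbackPushforwardAdjunction g).unit.app M ≫
      (Scheme.Modules.pushforwardCongr e.symm).hom.app _ ≫
      (Scheme.Modules.pushforwardComp j h).inv.app _ := Equiv.apply_symm_apply _ _
  rw [Adjunction.homEquiv_unit] at h1
  have h2 := congrArg (fun k => (Scheme.Modules.Hom.app k U) t) h1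
  exact h2

end Descend

/-- The transition map `P^m(F) ⟶ P^n(F)` for `n ≤ m`. -/
noncomputable def pModTrans {n m : ℕ} (h : n ≤ m) (F : X.Modules) : PMod f m F ⟶ PMod f n F :=
  (Scheme.Modules.pushforward (pr1 f m)).map
      (pullTo (pr2 f m) (infNbhdMap (diagCl f) h) (pr2 f n) (nbhdMap_pr2 f h) F) ≫
    (Scheme.Modules.pushforwardComp (infNbhdMap (diagCl f) h) (pr1 f m)).hom.app _ ≫
    (Scheme.Modules.pushforwardCongr (nbhdMap_pr1 f h)).hom.app _

theorem resM_resM' {Y : Scheme.{u}} {M : Y.Modules} {A B C : Y.Opens} (j₁ : B ⟶ A) (j₂ : C ⟶ B)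
    (j₃ : C ⟶ A) (x : Γ(M, A)) :
    M.presheaf.map j₂.op (M.presheaf.map j₁.op x) = M.presheaf.map j₃.op x := by
  rw [OmegaSh.resM_resM]; rfl

theorem hom_app_res {Y : Scheme.{u}} {M N : Y.Modules} (φ : M ⟶ N) {A B : Y.Opens} (j : B ⟶ A)
    (x : Γ(M, A)) : φ.app B (M.presheaf.map j.op x) = N.presheaf.map j.op (φ.app A x) :=
  congr($((Scheme.Modules.Hom.mapPresheaf φ).naturality j.op) x)

theorem trans_aux {Y Z W : Scheme.{u}} (j : W ⟶ Z) (p q : Z ⟶ Y) (p' q' : W ⟶ Y)
    (ep : j ≫ p = p') (eq : j ≫ q = q') (M : Y.Modules) (U : Y.Opens)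
    (hZ : p ⁻¹ᵁ U ≤ q ⁻¹ᵁ U) (hW : p' ⁻¹ᵁ U ≤ q' ⁻¹ᵁ U) (t : Γ(M, U)) :
    ((Scheme.Modules.pushforward p).map (pullTo q j q' eq M) ≫
      (Scheme.Modules.pushforwardComp j p).hom.app _ ≫
      (Scheme.Modules.pushforwardCongr ep).hom.app _).app U
        (((Scheme.Modules.pullback q).obj M).presheaf.map (homOfLE hZ).op
          (OmegaSh.pullSect q M U t)) =
      ((Scheme.Modules.pullback q').obj M).presheaf.map (homOfLE hW).op
        (OmegaSh.pullSect q' M U t) := by
  subst ep eq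
  have key := hom_app_res (pullTo q j (j ≫ q) rfl M) (homOfLE hZ) (OmegaSh.pullSect q M U t)
  rw [pullTo_pullSect] at key
  let N := (Scheme.Modules.pullback (j ≫ q)).obj M
  have h1 : ∀ {A B : W.Opens} (e : A = B) (h : B ≤ A) (x : Γ(N, A)),
      N.presheaf.map (eqToHom e.symm).op x = N.presheaf.map (homOfLE h).op x := fun _ _ _ => rfl
  refine (congrArg (N.presheaf.map (eqToHom rfl).op) key).trans ?_
  exact (congrArg _ (resM_resM' (M := N) _ _ (homOfLE (j.preimage_mono hZ)) _)).trans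
    (resM_resM' (M := N) _ _ (homOfLE hW) _)

theorem pModTrans_dP {n m : ℕ} (h : n ≤ m) (F : X.Modules) (U : X.Opens) (t : Γ(F, U)) :
    (pModTrans f h F).app U (dP f m F U t) = dP f n F U t :=
  trans_aux (infNbhdMap (diagCl f) h) (pr1 f m) (pr2 f m) (pr1 f n) (pr2 f n)
    (nbhdMap_pr1 f h) (nbhdMap_pr2 f h) F U (preimage_pr1 f m U).le (preimage_pr1 f n U).le t

theorem isDiffOpLE_of_le (F G : X.Modules) {n m : ℕ} (h : n ≤ m)
    {D : F.presheaf ⟶ G.presheaf} (hD : IsDiffOpLE f F G n D) : IsDiffOpLE f F G m D := by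
  obtain ⟨u, hu⟩ := hD
  refine ⟨pModTrans f h F ≫ u, fun U t => ?_⟩
  rw [hu, Scheme.Modules.Hom.comp_app, ConcreteCategory.comp_apply, pModTrans_dP]

/-! ### Order zero -/

instance isIso_inclusion_zero : IsIso (toNbhd f 0) := by
  have e1 : (diagCl f).ker = (diagCl f).ker ^ (0 + 1) := (pow_one _).symm
  have : IsIso (Scheme.IdealSheafData.inclusion (ker_pow_succ_le (diagCl f) 0)) :=
    ⟨Scheme.IdealSheafData.inclusion e1.le, by simp, by simp⟩
  unfold toNbhd toInfNbhd
  infer_instance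

theorem pr1_zero : pr1 f 0 = inv (toNbhd f 0) := by
  rw [← cancel_epi (toNbhd f 0), toNbhd_pr1, IsIso.hom_inv_id]

theorem pr2_zero : pr2 f 0 = inv (toNbhd f 0) := by
  rw [← cancel_epi (toNbhd f 0), toNbhd_pr2, IsIso.hom_inv_id]

theorem pr1_zero_eq : pr1 f 0 = pr2 f 0 := by rw [pr1_zero, pr2_zero]

theorem isEquivalence_pushforward {Y Z : Scheme.{u}} (h : Y ⟶ Z) [IsIso h] :
    (Scheme.Modules.pushforward h).IsEquivalence :=
  (CategoryTheory.Equivalence.mk (Scheme.Modules.pushforward h) (Scheme.Modules.pushforward (inv h))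
    ((Scheme.Modules.pushforwardId Y).symm ≪≫
      Scheme.Modules.pushforwardCongr (IsIso.hom_inv_id h).symm ≪≫
      (Scheme.Modules.pushforwardComp h (inv h)).symm)
    (Scheme.Modules.pushforwardComp (inv h) h ≪≫
      Scheme.Modules.pushforwardCongr (IsIso.inv_hom_id h) ≪≫
      Scheme.Modules.pushforwardId Z)).isEquivalence_functor

theorem pullSect_bijective {Y Z : Scheme.{u}} (h : Y ⟶ Z) [IsIso h] (M : Z.Modules)
    (U : Z.Opens) : Function.Bijective (OmegaSh.pullSect h M U) := by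
  have := isEquivalence_pushforward h
  have : (Scheme.Modules.pullback h).IsEquivalence :=
    (Scheme.Modules.pullbackPushforwardAdjunction h).isEquivalence_left_of_isEquivalence_right
  have hu : IsIso ((Scheme.Modules.pullbackPushforwardAdjunction h).unit.app M) := inferInstance
  have := Scheme.Modules.Hom.isIso_iff_isIso_app.mp hu U
  exact ConcreteCategory.bijective_of_isIso
    (((Scheme.Modules.pullbackPushforwardAdjunction h).unit.app M).app U)

theorem dP_zero_bijective (F : X.Modules) (U : X.Opens) :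
    Function.Bijective (dP f 0 F U) := by
  have : IsIso (pr2 f 0) := by rw [pr2_zero]; infer_instance
  have e : pr1 f 0 ⁻¹ᵁ U = pr2 f 0 ⁻¹ᵁ U := preimage_pr1 f 0 U
  have : IsIso (homOfLE e.le) := ⟨homOfLE e.ge, rfl, rfl⟩
  have hb := ConcreteCategory.bijective_of_isIso
    (((Scheme.Modules.pullback (pr2 f 0)).obj F).presheaf.map (homOfLE e.le).op)
  exact hb.comp (pullSect_bijective (pr2 f 0) F U)

theorem app_eq_res {Y Z : Scheme.{u}} {h g : Y ⟶ Z} (e : h = g) (U : Z.Opens) (a : Γ(Z, U)) :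
    h.app U a = Y.presheaf.map (eqToHom (by subst e; rfl : h ⁻¹ᵁ U = g ⁻¹ᵁ U)).op (g.app U a) := by
  subst e; simp

theorem dP_zero_smul (F : X.Modules) (U : X.Opens) (a : Γ(X, U)) (t : Γ(F, U)) :
    dP f 0 F U (a • t) = a • dP f 0 F U t := by
  rw [dP_apply, OmegaSh.pullSect_smul, Scheme.Modules.map_smul]
  change _ = ((pr1 f 0).app U a •
    (((Scheme.Modules.pullback (pr2 f 0)).obj F).presheaf.map
      (homOfLE (preimage_pr1 f 0 U).le).op (OmegaSh.pullSect (pr2 f 0) F U t)) :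
        Γ((Scheme.Modules.pullback (pr2 f 0)).obj F, pr1 f 0 ⁻¹ᵁ U))
  rw [app_eq_res (pr1_zero_eq f) U a]
  rfl

theorem isDiffOpLE_zero_iff (F G : X.Modules) (D : F.presheaf ⟶ G.presheaf) :
    IsDiffOpLE f F G 0 D ↔
      ∀ (U : X.Opens) (a : Γ(X, U)) (t : Γ(F, U)), D.app (op U) (a • t) = a • D.app (op U) t := by
  constructor
  · rintro ⟨u, hu⟩ U a t
    rw [hu, hu, dP_zero_smul]
    exact Scheme.Modules.Hom.app_smul _ _ _
  · intro hD
    let lin : F ⟶ G := ⟨PresheafOfModules.homMk D fun U a t => hD U.unop a t⟩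
    let δ : F ⟶ PMod f 0 F :=
      ⟨PresheafOfModules.homMk (dPHom f 0 F) fun U a t => dP_zero_smul f F U.unop a t⟩
    have : IsIso δ := by
      rw [Scheme.Modules.Hom.isIso_iff_isIso_app]
      intro U
      exact (ConcreteCategory.isIso_iff_bijective _).mpr (dP_zero_bijective f F U)
    refine ⟨inv δ ≫ lin, fun U t => ?_⟩
    have : (inv δ).app U (dP f 0 F U t) = t := by
      change (δ.app U ≫ (inv δ).app U) t = t
      rw [← Scheme.Modules.Hom.comp_app, IsIso.hom_inv_id]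
      rfl
    rw [Scheme.Modules.Hom.comp_app, ConcreteCategory.comp_apply, this]
    rfl

end Groth.Agent.Nrm6
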